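import Mathlib

/-!
Element orders of alternating groups through cycle types.
-/

set_option autoImplicit false

namespace Cfsg.Agent.Lib.AltOrders

open Equiv Equiv.Perm

theorem mem_range_orderOf_alt_iff {α : Type*} [Fintype α] [DecidableEq α] (m : ℕ) :
    m ∈ Set.range (orderOf : alternatingGroup α → ℕ) ↔
      ∃ s : Multiset ℕ, (∀ a ∈ s, 2 ≤ a) ∧ s.sum ≤ Fintype.card α ∧ Even (s.sum + Multiset.card s) ∧
        s.lcm = m := by
  constructor
  · rintro ⟨σ, rfl⟩
    refine ⟨σ.1.cycleType, fun a ha => Equiv.Perm.two_le_of_mem_cycleType ha,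
      ?_, ?_, ?_⟩
    · rw [Equiv.Perm.sum_cycleType]; exact Finset.card_le_univ _
    · have h : Equiv.Perm.sign σ.1 = 1 := Equiv.Perm.mem_alternatingGroup.1 σ.2
      rw [Equiv.Perm.sign_of_cycleType] at h
      by_contra hodd
      rw [(Nat.not_even_iff_odd.1 hodd).neg_one_pow] at h
      exact absurd h (by decide)
    · rw [Equiv.Perm.lcm_cycleType, Subgroup.orderOf_coe]
  · rintro ⟨s, h2, hsum, hev, rfl⟩
    obtain ⟨g, hg⟩ := (Equiv.Perm.exists_with_cycleType_iff (α := α)).2 ⟨hsum, h2⟩
    have hmem : g ∈ alternatingGroup α := by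
      rw [Equiv.Perm.mem_alternatingGroup, Equiv.Perm.sign_of_cycleType, hg, hev.neg_one_pow]
    exact ⟨⟨g, hmem⟩, by rw [Subgroup.orderOf_mk, ← Equiv.Perm.lcm_cycleType, hg]⟩

theorem exists_mem_dvd_of_prime_dvd_lcm {s : Multiset ℕ} {r : ℕ} (hr : r.Prime) (h : r ∣ s.lcm) :
    ∃ a ∈ s, r ∣ a := by
  induction s using Multiset.induction_on with
  | empty => simp at h; exact absurd h hr.ne_one
  | cons a t ih =>
    rw [Multiset.lcm_cons] at h
    rcases hr.dvd_mul.1 (h.trans (Nat.lcm_dvd_mul _ _)) with h' | h'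
    · exact ⟨a, Multiset.mem_cons_self _ _, h'⟩
    · obtain ⟨b, hb, hrb⟩ := ih h'
      exact ⟨b, Multiset.mem_cons_of_mem hb, hrb⟩

/-- The possible pairs (lcm, parity) of cycle types of total size at most `n`. -/
def reach : ℕ → ℕ → Finset (ℕ × Bool)
  | 0, _ => {(1, false)}
  | fuel + 1, n =>
      insert (1, false) ((Finset.Icc 2 n).biUnion fun a =>
        (reach fuel (n - a)).image fun p => (Nat.lcm a p.1, xor (decide (a % 2 = 0)) p.2))

theorem mem_reach : ∀ (fuel n : ℕ) (s : Multiset ℕ), (∀ a ∈ s, 2 ≤ a) → s.sum ≤ n → n ≤ fuel →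
    (s.lcm, decide ((s.sum + Multiset.card s) % 2 = 1)) ∈ reach fuel n := by
  intro fuel
  induction fuel with
  | zero =>
    intro n s h2 hsum hn
    have hs : s = 0 := by
      apply Multiset.eq_zero_of_forall_notMem
      intro a ha
      have := h2 a ha
      have := Multiset.le_sum_of_mem ha
      omega
    subst hs
    simp [reach]
  | succ f ih =>
    intro n s h2 hsum hn
    rcases s.empty_or_exists_mem with rfl | ⟨a, ha⟩
    · simp [reach]
    · obtain ⟨t, rfl⟩ := Multiset.exists_cons_of_mem ha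
      have ha2 := h2 a ha
      rw [Multiset.sum_cons] at hsum
      rw [reach, Finset.mem_insert, Finset.mem_biUnion]
      refine Or.inr ⟨a, Finset.mem_Icc.2 ⟨ha2, by omega⟩, Finset.mem_image.2
        ⟨_, ih (n - a) t (fun b hb => h2 b (Multiset.mem_cons_of_mem hb)) (by omega) (by omega), ?_⟩⟩
      simp only [Multiset.lcm_cons, Multiset.sum_cons, Multiset.card_cons]
      refine Prod.ext rfl ?_
      rcases Nat.mod_two_eq_zero_or_one a with h | h <;>
        rcases Nat.mod_two_eq_zero_or_one (t.sum + Multiset.card t) with h' | h' <;>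
        simp [h, h', show (a + t.sum + (Multiset.card t + 1)) % 2 = (a % 2 + (t.sum + Multiset.card t) % 2 + 1) % 2 by omega]

end Cfsg.Agent.Lib.AltOrders
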